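import Mathlib
import Cfsg.Agent.LinearPGroupDL.Main

/-!
Derived length of `p`-subgroups of general linear groups over a finite field in cross characteristic.
-/

set_option autoImplicit false

namespace Cfsg.Agent.LinearPGroupDL

open Polynomial

universe u v w

/-- The bound for any representation over any field. -/
theorem main_field {F : Type u} [Field F] {P : Type v} [Group P] [Finite P] {p : ℕ} [Fact p.Prime]
    (hP : IsPGroup p P) {V : Type w} [AddCommGroup V] [Module F V] [FiniteDimensional F V]
    (ρ : P →* Module.End F V) {x : P}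
    (hx : x ∈ derivedSeries P (Nat.log 2 (Module.finrank F V) + 1)) : ρ x = 1 := by
  let K := AlgebraicClosure F
  let b := Module.finBasis F V
  let f : Matrix (Fin (Module.finrank F V)) (Fin (Module.finrank F V)) F →+*
      Matrix (Fin (Module.finrank F V)) (Fin (Module.finrank F V)) K := (algebraMap F K).mapMatrix
  let g : Module.End F V →* Module.End K (Fin (Module.finrank F V) → K) :=
    ((Matrix.toLinAlgEquiv' (R := K) (n := Fin (Module.finrank F V))).toAlgHom.toRingHom.toMonoidHom.comp
      f.toMonoidHom).comp (LinearMap.toMatrixAlgEquiv b).toAlgHom.toRingHom.toMonoidHom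
  have hg : Function.Injective g := by
    intro a c h
    have h1 : f (LinearMap.toMatrixAlgEquiv b a) = f (LinearMap.toMatrixAlgEquiv b c) :=
      (Matrix.toLinAlgEquiv' (R := K) (n := Fin (Module.finrank F V))).injective h
    exact (LinearMap.toMatrixAlgEquiv b).injective (Matrix.map_injective (algebraMap F K).injective h1)
  have hdim : Module.finrank K (Fin (Module.finrank F V) → K) = Module.finrank F V :=
    Module.finrank_fin_fun K
  refine hg ?_
  rw [map_one]
  by_cases hp : (p : K) = 0
  · haveI : CharP K p := (CharP.charP_iff_prime_eq_zero Fact.out).2 hp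
    exact main_char hP (g.comp ρ) (by rwa [hdim])
  · exact main_coprime hp _ P hP _ hdim (g.comp ρ) x hx

/-- Over the field of `q` elements the degree may be divided by the order of `q` modulo `p`. -/
theorem main_finite_field {F : Type u} [Field F] [Fintype F] {p : ℕ} [Fact p.Prime]
    (hpq : ¬ p ∣ Fintype.card F) :
    ∀ (n : ℕ) (P : Type v) [Group P] [Finite P], IsPGroup p P →
      ∀ (V : Type w) [AddCommGroup V] [Module F V] [FiniteDimensional F V],
        Module.finrank F V = n → ∀ ρ : P →* Module.End F V,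
          ∀ x ∈ derivedSeries P (Nat.log 2 (n / orderOf (Fintype.card F : ZMod p)) + 1),
            ρ x = 1 := by
  set e := orderOf (Fintype.card F : ZMod p) with he
  have hpF : (p : F) ≠ 0 := by
    intro h
    haveI : CharP F p := (CharP.charP_iff_prime_eq_zero Fact.out).2 h
    obtain ⟨k, _, hk⟩ := FiniteField.card F p
    exact hpq (hk ▸ dvd_pow_self p k.pos.ne')
  intro n
  induction n using Nat.strong_induction_on with
  | _ n ih =>
  intro P _ _ hP V _ _ _ hn ρ x hx
  by_cases hred : ∃ W : Submodule F V, W ≠ ⊥ ∧ W ≠ ⊤ ∧ ∀ g, ∀ v ∈ W, ρ g v ∈ W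
  · obtain ⟨W, hW0, hW1, hW⟩ := hred
    have hlt : Module.finrank F W < n := hn ▸ Submodule.finrank_lt hW1
    have hpos : 0 < Module.finrank F W := Submodule.one_le_finrank_iff.2 hW0
    have hlt' : Module.finrank F (V ⧸ W) < n := by
      have := W.finrank_quotient_add_finrank
      omega
    have hmono : ∀ m, m < n →
        derivedSeries P (Nat.log 2 (n / e) + 1) ≤ derivedSeries P (Nat.log 2 (m / e) + 1) :=
      fun m hm => derivedSeries_antitone P (by
        have := Nat.log_mono_right (b := 2) (Nat.div_le_div_right (c := e) hm.le)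
        omega)
    have h1 := ih _ hlt P hP W rfl (restrictRep ρ W hW) x (hmono _ hlt hx)
    have h2 := ih _ hlt' P hP (V ⧸ W) rfl (quotientRep ρ W hW) x (hmono _ hlt' hx)
    refine eq_one_of_fixes hpF hP ρ W (fun v hv => ?_) (fun v => ?_)
    · have := congrArg (fun f : Module.End F W => ((f ⟨v, hv⟩ : W) : V)) h1
      simpa using this
    · have := congrArg (fun f : Module.End F (V ⧸ W) => f (Submodule.Quotient.mk v)) h2
      simpa [Submodule.Quotient.eq] using this
  push Not at hred
  by_cases htriv : ∀ g, ρ g = 1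
  · exact htriv x
  push Not at htriv
  obtain ⟨g₀, hg₀⟩ := htriv
  -- a central element of order `p` of the image
  haveI : Nontrivial (P ⧸ ρ.ker) := by
    rw [QuotientGroup.nontrivial_iff]
    intro h
    exact hg₀ ((MonoidHom.mem_ker).1 (h ▸ Subgroup.mem_top g₀))
  haveI := (hP.to_quotient ρ.ker).center_nontrivial
  have hpc : p ∣ Nat.card (Subgroup.center (P ⧸ ρ.ker)) := by
    obtain ⟨k, hk⟩ := IsPGroup.iff_card.1 ((hP.to_quotient ρ.ker).to_subgroup (Subgroup.center _))
    have : 1 < Nat.card (Subgroup.center (P ⧸ ρ.ker)) := Finite.one_lt_card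
    rw [hk] at this ⊢
    exact dvd_pow_self p (by rintro rfl; simp at this)
  obtain ⟨⟨z', hz'⟩, hzo⟩ := exists_prime_orderOf_dvd_card' p hpc
  obtain ⟨z, rfl⟩ := QuotientGroup.mk'_surjective ρ.ker z'
  have hz1 : ρ z ≠ 1 := by
    intro h
    have : (⟨QuotientGroup.mk' ρ.ker z, hz'⟩ : Subgroup.center (P ⧸ ρ.ker)) = 1 :=
      Subtype.ext ((QuotientGroup.eq_one_iff z).2 h)
    rw [this, orderOf_one] at hzo
    exact (Fact.out : p.Prime).ne_one hzo.symm
  have hzp : ρ z ^ p = 1 := by
    rw [← map_pow]
    refine MonoidHom.mem_ker.1 ((QuotientGroup.eq_one_iff (N := ρ.ker) (z ^ p)).1 ?_)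
    have := congrArg Subtype.val (hzo ▸ pow_orderOf_eq_one
      (⟨QuotientGroup.mk' ρ.ker z, hz'⟩ : Subgroup.center (P ⧸ ρ.ker)))
    simpa using this
  have hcomm : ∀ g, Commute (ρ g) (ρ z) := by
    intro g
    have h : QuotientGroup.mk' ρ.ker (g * z) = QuotientGroup.mk' ρ.ker (z * g) := by
      rw [map_mul, map_mul]
      exact Subgroup.mem_center_iff.1 hz' _
    have h1 : (g * z)⁻¹ * (z * g) ∈ ρ.ker := QuotientGroup.eq.1 h
    show ρ g * ρ z = ρ z * ρ g
    rw [← map_mul, ← map_mul]
    calc ρ (g * z) = ρ (g * z) * ρ ((g * z)⁻¹ * (z * g)) := by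
          rw [MonoidHom.mem_ker.1 h1, mul_one]
      _ = ρ (z * g) := by rw [← map_mul]; congr 1; group
  set T := ρ z with hT
  haveI : Nontrivial V := by
    by_contra hV
    rw [not_nontrivial_iff_subsingleton] at hV
    exact hz1 (LinearMap.ext fun v => Subsingleton.elim _ _)
  -- an irreducible polynomial annihilating `T`
  obtain ⟨h, hirr, hdvd⟩ : ∃ h : F[X], Irreducible h ∧ h ∣ minpoly F T :=
    WfDvdMonoid.exists_irreducible_factor (minpoly.not_isUnit F T)
      (minpoly.ne_zero (Algebra.IsIntegral.isIntegral T))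
  have hker : aeval T h = 0 := by
    set W := LinearMap.ker (aeval T h) with hW
    have hWinv : ∀ g, ∀ v ∈ W, ρ g v ∈ W := by
      intro g v hv
      rw [hW, LinearMap.mem_ker] at hv ⊢
      have hc : Commute (ρ g) (aeval T h) := by
        rw [aeval_eq_sum_range]
        exact Commute.sum_right _ _ _ fun i _ => ((hcomm g).pow_right i).smul_right _
      rw [← Module.End.mul_apply, ← hc.eq, Module.End.mul_apply, hv, map_zero]
    have hW0 : W ≠ ⊥ := by
      intro h0
      obtain ⟨r, hr⟩ := hdvd
      have hr0 : aeval T r = 0 := by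
        refine LinearMap.ext fun v => (LinearMap.ker_eq_bot.1 h0) ?_
        rw [← Module.End.mul_apply, ← map_mul, ← hr, minpoly.aeval]
        simp
      have hrne : r ≠ 0 := fun h' => minpoly.ne_zero (Algebra.IsIntegral.isIntegral T)
        (by rw [hr, h', mul_zero])
      have hd := natDegree_le_of_dvd (minpoly.dvd F T hr0) hrne
      rw [hr, natDegree_mul hirr.ne_zero hrne] at hd
      have := hirr.natDegree_pos
      omega
    have hWtop : W = ⊤ := by
      by_contra htop
      obtain ⟨g, v, hv, hgv⟩ := hred W hW0 htop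
      exact hgv (hWinv g v hv)
    exact LinearMap.ker_eq_top.1 hWtop
  haveI : Fact (Irreducible h) := ⟨hirr⟩
  let φ : AdjoinRoot h →ₐ[F] Module.End F V :=
    Ideal.Quotient.liftₐ (Ideal.span {h}) (aeval T) (fun a ha => by
      obtain ⟨c, rfl⟩ := Ideal.mem_span_singleton'.1 ha
      rw [map_mul, hker, mul_zero])
  have hφmk : ∀ f, φ (AdjoinRoot.mk h f) = aeval T f := fun f => rfl
  have hφroot : φ (AdjoinRoot.root h) = T := by
    rw [← AdjoinRoot.mk_X, hφmk, aeval_X]
  letI : Module (AdjoinRoot h) V := Module.compHom V φ.toRingHom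
  haveI : IsScalarTower F (AdjoinRoot h) V := ⟨fun a k v => by
    show φ (a • k) v = a • φ k v
    rw [map_smul]
    rfl⟩
  haveI : FiniteDimensional (AdjoinRoot h) V := Module.Finite.of_restrictScalars_finite F _ _
  haveI : Module.Finite F (AdjoinRoot h) := (AdjoinRoot.powerBasis hirr.ne_zero).finite
  haveI : Finite (AdjoinRoot h) := Module.finite_of_finite F
  haveI : Fintype (AdjoinRoot h) := Fintype.ofFinite _
  -- the degree of `h` is a multiple of `e`
  have hdeg : e ∣ Module.finrank F (AdjoinRoot h) := by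
    have hr1 : AdjoinRoot.root h ^ p = 1 := φ.toRingHom.injective (by
      show φ (AdjoinRoot.root h ^ p) = φ 1
      rw [map_pow, hφroot, map_one, hzp])
    have hrne : AdjoinRoot.root h ≠ 1 := fun hr => hz1 (by rw [← hφroot, hr, map_one])
    have hord : orderOf (AdjoinRoot.root h) = p := orderOf_eq_prime hr1 hrne
    have hr0 : AdjoinRoot.root h ≠ 0 := fun hr0 => by
      rw [hr0, zero_pow (Fact.out : p.Prime).ne_zero] at hr1
      exact zero_ne_one hr1
    have h1 : p ∣ Fintype.card (AdjoinRoot h) - 1 := by
      conv_lhs => rw [← hord]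
      exact orderOf_dvd_of_pow_eq_one (FiniteField.pow_card_sub_one_eq_one _ hr0)
    rw [Module.card_eq_pow_finrank (K := F)] at h1
    rw [he, orderOf_dvd_iff_pow_eq_one]
    obtain ⟨c, hc⟩ := h1
    have hpow : Fintype.card F ^ Module.finrank F (AdjoinRoot h) = p * c + 1 := by
      have := Nat.one_le_pow (Module.finrank F (AdjoinRoot h)) _ (Fintype.card_pos (α := F))
      omega
    rw [← Nat.cast_pow, hpow]
    simp
  have hrank : Module.finrank (AdjoinRoot h) V ≤ n / e := by
    have h1 := Module.finrank_mul_finrank F (AdjoinRoot h) V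
    rw [hn] at h1
    have he0 : 0 < Module.finrank F (AdjoinRoot h) := Module.finrank_pos
    have h2 : 0 < e := Nat.pos_of_ne_zero fun h0 => by
      rw [h0, zero_dvd_iff] at hdeg
      omega
    rw [Nat.le_div_iff_mul_le h2]
    calc Module.finrank (AdjoinRoot h) V * e
        ≤ Module.finrank (AdjoinRoot h) V * Module.finrank F (AdjoinRoot h) :=
          Nat.mul_le_mul_left _ (Nat.le_of_dvd he0 hdeg)
      _ = n := by rw [mul_comm, h1]
  let σ : P →* Module.End (AdjoinRoot h) V :=
    { toFun := fun g =>
        { toFun := fun v => ρ g v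
          map_add' := map_add (ρ g)
          map_smul' := fun k v => by
            show ρ g (φ k v) = φ k (ρ g v)
            obtain ⟨f, rfl⟩ := AdjoinRoot.mk_surjective k
            have hc : Commute (ρ g) (aeval T f) := by
              rw [aeval_eq_sum_range]
              exact Commute.sum_right _ _ _ fun i _ => ((hcomm g).pow_right i).smul_right _
            rw [hφmk, ← Module.End.mul_apply, hc.eq, Module.End.mul_apply] }
      map_one' := LinearMap.ext fun v => by
        show ρ 1 v = v
        simp
      map_mul' := fun a b => LinearMap.ext fun v => by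
        show ρ (a * b) v = ρ a (ρ b v)
        simp }
  have h3 := main_field hP σ (x := x) (derivedSeries_antitone P (by
    have := Nat.log_mono_right (b := 2) hrank
    omega) hx)
  exact LinearMap.ext fun v => LinearMap.congr_fun h3 v

theorem main_gl {F : Type u} [Field F] [Fintype F] (q : ℕ) (hF : Fintype.card F = q) (p : ℕ)
    [Fact p.Prime] (hpq : ¬ p ∣ q) (n e : ℕ) (he : e = orderOf (q : ZMod p))
    (P : Subgroup (GL (Fin n) F)) (hP : IsPGroup p P) :
    derivedSeries ↥P (Nat.log 2 (n / e) + 1) = ⊥ := by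
  subst hF he
  rw [eq_bot_iff]
  intro x hx
  rw [Subgroup.mem_bot]
  let ρ : P →* Module.End F (Fin n → F) :=
    (Matrix.toLinAlgEquiv' (R := F) (n := Fin n)).toAlgHom.toRingHom.toMonoidHom.comp
      ((Units.coeHom _).comp P.subtype)
  have h := main_finite_field hpq n P hP (Fin n → F) (Module.finrank_fin_fun F) ρ x hx
  refine Subtype.ext (Units.ext ((Matrix.toLinAlgEquiv' (R := F) (n := Fin n)).injective ?_))
  show ρ x = Matrix.toLinAlgEquiv' (1 : Matrix (Fin n) (Fin n) F)
  rw [h, map_one]

end Cfsg.Agent.LinearPGroupDL
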